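import Groth.Agent.EfClosedLib.Limit
import Groth.Agent.AcycCompLib.Criterion
import Groth.Agent.CompBCLib.Killed
import Groth.Agent.S3054
import Groth.Agent.S0122
import Groth.Agent.PBCCons.Torsion

/-!
# Cohomology of torsion sheaves on henselian pairs

Induction on the degree: in degree zero this is the statement on global sections, and classes in
positive degree are effaced, on the spectrum as well as on the closed subscheme, by torsion sheaves.
-/

set_option autoImplicit false
set_option linter.style.haveILetI false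
set_option backward.isDefEq.respectTransparency false
set_option backward.isDefEq.respectTransparency.types false
set_option maxHeartbeats 1000000

universe u

open CategoryTheory CategoryTheory.Limits AlgebraicGeometry Opposite CategoryTheory.Abelian

attribute [local instance] Groth.Agent.S0101.result

noncomputable section

namespace Groth.Agent.GabberPairLib

variable (A : Type u) [CommRing A] (I : Ideal A)

/-- The closed immersion of the quotient. -/
abbrev quotMap : Spec (CommRingCat.of (A ⧸ I)) ⟶ Spec (CommRingCat.of A) :=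
  Spec.map (CommRingCat.ofHom (Ideal.Quotient.mk I))

instance isClosedImmersion_quotMap : IsClosedImmersion (quotMap A I) :=
  IsClosedImmersion.spec_of_surjective _ Ideal.Quotient.mk_surjective

variable [HenselianRing A I]

/-- Sections. -/
theorem bijective_unit_zero (F : EtCoh.Ab (Spec (CommRingCat.of A))) :
    Function.Bijective (Sheaf.H.map ((EtCoh.pullPushAdj (quotMap A I)).unit.app F) 0) := by
  let hT := EtCore.topIsTerminal (Spec (CommRingCat.of A))
  have h0 := Groth.Agent.S0122.result A I F
  have e : ⇑(Sheaf.H.map ((EtCoh.pullPushAdj (quotMap A I)).unit.app F) 0) =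
      (Sheaf.H.equiv₀ _ hT).symm ∘
        ⇑(((EtCoh.pullPushAdj (quotMap A I)).unit.app F).hom.app (op (EtCoh.top (Spec (CommRingCat.of A))))) ∘
        (Sheaf.H.equiv₀ F hT) := funext fun x => by
    refine (Sheaf.H.equiv₀ _ hT).injective ?_
    rw [Function.comp_apply, Function.comp_apply, AddEquiv.apply_symm_apply]
    exact (Sheaf.H.equiv₀_naturality hT _ x).symm
  rw [e]
  exact ((Sheaf.H.equiv₀ _ hT).symm.bijective.comp h0).comp (Sheaf.H.equiv₀ F hT).bijective

theorem hpull_eq (F : EtCoh.Ab (Spec (CommRingCat.of A))) (q : ℕ) :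
    ⇑(EtCore.Hpull (quotMap A I) F q) = ⇑(EtLim.HofPush (quotMap A I) ((EtCoh.pull (quotMap A I)).obj F) q) ∘
      ⇑(Sheaf.H.map ((EtCoh.pullPushAdj (quotMap A I)).unit.app F) q) :=
  funext fun x => AcycCompLib.Hpull_eq_HofPush_unit (quotMap A I) q F x

omit [HenselianRing A I] in
theorem bijective_HofPush (F : EtCoh.Ab (Spec (CommRingCat.of (A ⧸ I)))) (q : ℕ) :
    Function.Bijective (EtLim.HofPush (quotMap A I) F q) :=
  (AcycCompLib.bijective_HofPush (quotMap A I) _ q q fun p hp _ =>
    Groth.Agent.S3054.result (quotMap A I) _ p hp).1 le_rfl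

/-- The comparison on torsion sheaves. -/
theorem bijective_Hpull : ∀ (q : ℕ) (F : EtCoh.Ab (Spec (CommRingCat.of A))), EtCoh.IsTorsion F →
    Function.Bijective (EtCore.Hpull (quotMap A I) F q) := by
  intro q
  induction q with
  | zero =>
    intro F _
    rw [hpull_eq]
    exact (bijective_HofPush A I _ 0).comp (bijective_unit_zero A I F)
  | succ q ih =>
    intro F hF
    refine ⟨(injective_iff_map_eq_zero _).2 fun x hx => ?_, fun y => ?_⟩
    · obtain ⟨M, hM, a, ha, h0⟩ := EfClosedLib.exists_efface_torsion (𝟙 _) hF (q + 1) q.succ_pos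
        (EtCore.Hpull (𝟙 _) F (q + 1) x)
      haveI := ha
      rw [← CompBCLib.Hpull_map] at h0
      have hx0 : Sheaf.H.map a (q + 1) x = 0 :=
        (AcycCompLib.bijective_Hpull_of_isIso (𝟙 _) M (q + 1)).1 (h0.trans (map_zero _).symm)
      let S := ShortComplex.mk a (cokernel.π a) (cokernel.condition a)
      have hS : S.ShortExact := { exact := ShortComplex.exact_cokernel a }
      have hC : EtCoh.IsTorsion S.X₃ := PBCCons.isTorsion_of_epi (cokernel.π a) hM
      obtain ⟨t, rfl⟩ := Ext.covariant_sequence_exact₁ _ hS x hx0 (rfl : q + 1 = q + 1)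
      rw [CompBCLib.Hpull_δ (quotMap A I) hS t] at hx
      obtain ⟨c', hc'⟩ := Ext.covariant_sequence_exact₃ _ (hS.map_of_exact (EtCoh.pull (quotMap A I))) _
        (rfl : q + 1 = q + 1) hx
      obtain ⟨c, rfl⟩ := (ih M hM).2 c'
      have hb : Sheaf.H.map S.g q c = t := (ih _ hC).1 ((CompBCLib.Hpull_map (quotMap A I) S.g c).trans hc')
      subst hb
      show (Ext.comp c (Ext.mk₀ S.g) (add_zero q)).comp _ _ = 0
      rw [Ext.comp_assoc_of_second_deg_zero, hS.comp_extClass, Ext.comp_zero]
    · obtain ⟨M, hM, a, ha, h0⟩ := EfClosedLib.exists_efface_torsion (quotMap A I) hF (q + 1) q.succ_pos y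
      haveI := ha
      let S := ShortComplex.mk a (cokernel.π a) (cokernel.condition a)
      have hS : S.ShortExact := { exact := ShortComplex.exact_cokernel a }
      have hC : EtCoh.IsTorsion S.X₃ := PBCCons.isTorsion_of_epi (cokernel.π a) hM
      obtain ⟨t', ht'⟩ := Ext.covariant_sequence_exact₁ _ (hS.map_of_exact (EtCoh.pull (quotMap A I))) y h0
        (rfl : q + 1 = q + 1)
      obtain ⟨t, rfl⟩ := (ih _ hC).2 t'
      exact ⟨t.comp hS.extClass rfl, (CompBCLib.Hpull_δ (quotMap A I) hS t).trans ht'⟩

/-- The unit comparison on torsion sheaves. -/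
theorem bijective_unit {F : EtCoh.Ab (Spec (CommRingCat.of A))} (hF : EtCoh.IsTorsion F) (q : ℕ) :
    Function.Bijective (Sheaf.H.map ((EtCoh.pullPushAdj (quotMap A I)).unit.app F) q) := by
  have h := bijective_Hpull A I q F hF
  rw [hpull_eq] at h
  exact (Function.Bijective.of_comp_iff' (bijective_HofPush A I _ q) _).1 h

end Groth.Agent.GabberPairLib
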